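import Cfsg.Agent.Lib.Helper7.AutPSU.FinalU
import Cfsg.Agent.Lib.Helper8.Bal.Abstract

/-!
# Local balance for `PSU_n`: the conclusion as a predicate (helper7)
-/

set_option autoImplicit false

namespace Cfsg.Agent.Lib.H7BalU

open Matrix Cfsg Cfsg.Agent.Lib.H7AutPSp Cfsg.Agent.Lib.H7AutPSU Cfsg.Agent.Lib.Helper8.AutSp

variable {n : ℕ} {F : Type*} [Field F] {q : ℕ}

/-- every `p'`-group of automorphisms of `PSU_n` commuting with `x` and normalised by the inner
automorphisms from the fixed points of `x` is trivial -/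
def CoreTrivialU (x : MulAut (PSUn n F q)) (p : ℕ) : Prop :=
  ∀ W : Subgroup (MulAut (PSUn n F q)), (Nat.card ↥W).Coprime p → (∀ w ∈ W, w * x = x * w) →
    (∀ k : PSUn n F q, x k = k → ∀ w ∈ W, MulAut.conj k * w * (MulAut.conj k)⁻¹ ∈ W) → W = ⊥

theorem coreTrivialU_transport {p : ℕ} (x φ α : MulAut (PSUn n F q)) (hα : α * x * α⁻¹ = φ)
    (h : CoreTrivialU φ p) : CoreTrivialU x p := by
  intro W h1 h2 h3
  exact Cfsg.Agent.Lib.Helper8.Bal.core_trivial_transport x φ α hα h W h1 h2 h3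

end Cfsg.Agent.Lib.H7BalU
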