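import Cfsg.Agent.Lib.Helper7.BalU.UD
import Cfsg.Agent.Lib.Helper7.BalU.U0

/-!
# Local balance for `PSU_n`: the frame theorem for involutions in the Frobenius coset (helper7)
-/

set_option autoImplicit false
set_option linter.unusedSectionVars false
set_option linter.style.haveILetI false

namespace Cfsg.Agent.Lib.H7BalU

open Matrix Cfsg Cfsg.Agent.Lib.H7AutPSp Cfsg.Agent.Lib.H7AutPSU Cfsg.Agent.Lib.H7AutPSL
open Cfsg.Agent.Lib.Helper8.AutSp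

variable {n : ℕ} {F : Type*} [Field F] {q : ℕ} {F₀ : Type*} [Field F₀]

local notation "sc" => Matrix.GeneralLinearGroup.scalar (Fin n)
local notation "gm" => Matrix.GeneralLinearGroup.map

/-! ### scalar matrices -/

theorem mem_center_GL_of_scalar (x : GL (Fin n) F₀) (c : F₀)
    (h : x.val = c • (1 : Matrix (Fin n) (Fin n) F₀)) : x ∈ Subgroup.center (GL (Fin n) F₀) := by
  rw [Matrix.GeneralLinearGroup.mem_center_iff_val_mem_range_scalar]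
  refine ⟨c, ?_⟩
  rw [h, Matrix.scalar_apply, Matrix.smul_one_eq_diagonal]

theorem scalar_of_mem_center_GL (x : GL (Fin n) F₀) (h : x ∈ Subgroup.center (GL (Fin n) F₀)) :
    ∃ c : F₀, x.val = c • (1 : Matrix (Fin n) (Fin n) F₀) := by
  rw [Matrix.GeneralLinearGroup.mem_center_iff_val_mem_range_scalar] at h
  obtain ⟨c, hc⟩ := h
  refine ⟨c, ?_⟩
  rw [← hc, Matrix.scalar_apply, Matrix.smul_one_eq_diagonal]

theorem gl_scalar_ne_zero (hn1 : 1 ≤ n) (h : GL (Fin n) F) (c : F)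
    (hc : h.val = c • (1 : Matrix (Fin n) (Fin n) F)) : c ≠ 0 := by
  rintro rfl
  rw [zero_smul] at hc
  have h1 : h.val * h⁻¹.val = 1 := by rw [← Units.val_mul, mul_inv_cancel, Units.val_one]
  rw [hc, Matrix.zero_mul] at h1
  have := congrFun (congrFun h1 ⟨0, hn1⟩) ⟨0, hn1⟩
  rw [Matrix.zero_apply, Matrix.one_apply_eq] at this
  exact zero_ne_one this

theorem conj_scalar_val (P h : GL (Fin n) F) (c : F)
    (hc : h.val = c • (1 : Matrix (Fin n) (Fin n) F)) :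
    (P * h * P⁻¹).val = c • (1 : Matrix (Fin n) (Fin n) F) := by
  rw [Units.val_mul, Units.val_mul, hc, Matrix.mul_smul, Matrix.mul_one, Matrix.smul_mul,
    ← Units.val_mul, mul_inv_cancel, Units.val_one]

theorem sc_mul_left (c : Fˣ) (A B : GL (Fin n) F) : A * (sc c * B) = sc c * (A * B) := by
  rw [← mul_assoc, ← Matrix.GeneralLinearGroup.scalar_commute, mul_assoc]

section frame

variable (τ : RingAut F) (hτ : ∀ t, τ t = t ^ q) (ι : F₀ →+* F) (hιτ : ∀ s, τ (ι s) = ι s)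
  (P : GL (Fin n) F) (S₀ : Subgroup (GL (Fin n) F₀)) (hdet : ∀ s ∈ S₀, s.val.det = 1)
  (hiso : ∀ s ∈ S₀, (s.val.map ι)ᵀ * ((P.val.map τ)ᵀ * P.val) * s.val.map ι =
    (P.val.map τ)ᵀ * P.val)
  (g : ↥(Cfsg.GU n F q)) (l : Fˣ)

/-- the image of a scalar matrix is trivial -/
theorem jD_eq_one_of_scalar (s : ↥S₀) (c : F₀)
    (hc : s.1.val = c • (1 : Matrix (Fin n) (Fin n) F₀)) :
    jD τ hτ ι hιτ P S₀ hdet hiso s = 1 := by
  rw [jD_apply]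
  apply prC_eq_one_of_scalar _ (ι c)
  have h1 : ((embSU τ hτ ι hιτ P S₀ hdet hiso s).1.1 : Matrix (Fin n) (Fin n) F) =
      (glS (embSU τ hτ ι hιτ P S₀ hdet hiso s)).val := rfl
  rw [h1, glS_embSU]
  unfold cjG
  apply conj_scalar_val
  show s.1.val.map ι = _
  rw [hc]
  ext i j
  rw [Matrix.map_apply, Matrix.smul_apply, Matrix.smul_apply, Matrix.one_apply, Matrix.one_apply]
  split_ifs
  · rw [smul_eq_mul, mul_one, smul_eq_mul, mul_one]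
  · rw [smul_zero, smul_zero, map_zero]

variable [Fintype F]

/-- an element with trivial image is scalar -/
theorem scalar_of_jD_eq_one (hF : Fintype.card F = q ^ 2) (hn1 : 1 ≤ n) (s : ↥S₀)
    (h1 : jD τ hτ ι hιτ P S₀ hdet hiso s = 1) :
    ∃ c : F₀, s.1.val = c • (1 : Matrix (Fin n) (Fin n) F₀) := by
  rw [jD_apply] at h1
  have h2 : (prC (1 : SUn n F q) : PSUn n F q) = prC (embSU τ hτ ι hιτ P S₀ hdet hiso s) := by
    rw [h1, map_one]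
  obtain ⟨ζ, hζ⟩ := prC_eq_glS hF hn1 _ _ h2
  rw [glS_one, mul_one, glS_embSU] at hζ
  unfold cjG at hζ
  have h3 : gm ι s.1 = sc ζ := by
    have : gm ι s.1 = P⁻¹ * (P * gm ι s.1 * P⁻¹) * P := by group
    rw [this, hζ, mul_assoc, Matrix.GeneralLinearGroup.scalar_commute, inv_mul_cancel_left]
  have h4 : ∀ i j, ι (s.1.val i j) = if i = j then (ζ : F) else 0 := by
    intro i j
    have := congrArg (fun A : GL (Fin n) F => A.val i j) h3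
    beta_reduce at this
    rw [Matrix.GeneralLinearGroup.coe_scalar, Matrix.scalar_apply, Matrix.diagonal_apply] at this
    exact this
  refine ⟨s.1.val ⟨0, hn1⟩ ⟨0, hn1⟩, ?_⟩
  ext i j
  rw [Matrix.smul_apply, Matrix.one_apply]
  apply ι.injective
  rw [h4 i j]
  split_ifs with hij
  · rw [smul_eq_mul, mul_one, h4, if_pos rfl]
  · rw [smul_zero, map_zero]

include hτ in
/-- the image of `S₀` is normalised by the fixed points of `x` -/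
theorem jD_norm (hF : Fintype.card F = q ^ 2) (hn1 : 1 ≤ n) (hτ2 : τ ^ 2 = 1) (hτ1 : τ ≠ 1)
    (hι : ∀ t : F, τ t = t → ∃ s, ι s = t)
    (hP : sc l * g.1 * gm (τ : F →+* F) P = P)
    (hsim : ∀ m₀ : GL (Fin n) F₀, (∃ μ : F, (m₀.val.map ι)ᵀ * ((P.val.map τ)ᵀ * P.val) *
      m₀.val.map ι = μ • ((P.val.map τ)ᵀ * P.val)) → ∀ s ∈ S₀, m₀ * s * m₀⁻¹ ∈ S₀)
    (k : PSUn n F q) (hk : (DhU g * PhU τ : MulAut (PSUn n F q)) k = k) (s : ↥S₀) :
    ∃ s' : ↥S₀, jD τ hτ ι hιτ P S₀ hdet hiso s' = k * jD τ hτ ι hιτ P S₀ hdet hiso s * k⁻¹ := by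
  obtain ⟨m, rfl⟩ := prC_surjective k
  obtain ⟨m₀, b, hm₀, hμ⟩ := fixed_lift τ hτ ι P g l hF hn1 hτ2 hτ1 hι hP m hk
  refine ⟨⟨m₀ * s.1 * m₀⁻¹, hsim m₀ hμ s.1 s.2⟩, ?_⟩
  rw [jD_apply, jD_apply, ← map_inv, ← map_mul, ← map_mul]
  congr 1
  apply glS_injective
  rw [glS_mul, glS_mul, glS_inv, glS_embSU, glS_embSU]
  unfold cjG
  show P * gm ι (m₀ * s.1 * m₀⁻¹) * P⁻¹ = glS m * (P * gm ι s.1 * P⁻¹) * (glS m)⁻¹
  rw [map_mul, map_mul, map_inv, hm₀]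
  obtain ⟨X, hX⟩ : ∃ X, X = P⁻¹ * glS m * P := ⟨_, rfl⟩
  have hXM : glS m = P * X * P⁻¹ := by rw [hX]; group
  rw [← hX, hXM]
  have h1 : sc b * X * gm ι s.1 * (sc b * X)⁻¹ = sc b * (X * gm ι s.1 * X⁻¹) * (sc b)⁻¹ := by
    group
  rw [h1, sc_conj']
  group

/-- the image of `S₀` has trivial centraliser -/
theorem frame_cent (hF : Fintype.card F = q ^ 2) (hn1 : 1 ≤ n)
    (hrig : ∀ (h : GL (Fin n) F) (ρ : RingAut F),
      (∀ s ∈ S₀, ∃ ζ : F, h.val * (s.val.map ι).map ρ = ζ • (s.val.map ι * h.val)) →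
      (∀ t, ρ (ι t) = ι t) ∧ ∃ c : F, h.val = c • (1 : Matrix (Fin n) (Fin n) F))
    (k : PSUn n F q)
    (hk : ∀ s : ↥S₀, k * jD τ hτ ι hιτ P S₀ hdet hiso s * k⁻¹ = jD τ hτ ι hιτ P S₀ hdet hiso s) :
    k = 1 := by
  obtain ⟨m, rfl⟩ := prC_surjective k
  obtain ⟨h, hh⟩ : ∃ h, h = P⁻¹ * glS m * P := ⟨_, rfl⟩
  have hrel : ∀ s ∈ S₀, ∃ ζ : F, h.val * (s.val.map ι).map (1 : RingAut F) =
      ζ • (s.val.map ι * h.val) := by
    intro s hs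
    have h1 := hk ⟨s, hs⟩
    rw [jD_apply, ← map_inv, ← map_mul, ← map_mul] at h1
    obtain ⟨ζ, hζ⟩ := prC_eq_glS hF hn1 _ _ h1.symm
    rw [glS_mul, glS_mul, glS_inv, glS_embSU] at hζ
    unfold cjG at hζ
    refine ⟨ζ, ?_⟩
    have h2 : h * gm ι s = sc ζ * (gm ι s * h) := by
      have e1 : h * gm ι s = P⁻¹ * (glS m * (P * gm ι s * P⁻¹) * (glS m)⁻¹) * (glS m * P) := by
        rw [hh]; group
      rw [e1, hζ]
      have e2 : P⁻¹ * (sc ζ * (P * gm ι s * P⁻¹)) = sc ζ * (P⁻¹ * (P * gm ι s * P⁻¹)) :=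
        sc_mul_left ζ _ _
      rw [e2, hh]
      group
    have h3 := congrArg Units.val h2
    rw [sc_val] at h3
    exact h3
  obtain ⟨-, c, hc⟩ := hrig h 1 hrel
  apply prC_eq_one_of_scalar m c
  have hM : glS m = P * h * P⁻¹ := by rw [hh]; group
  have := conj_scalar_val P h c hc
  rw [← hM] at this
  exact this

/-- the odd-order subgroup `W` meets the image of `S₀` trivially -/
theorem frame_B1 (hF : Fintype.card F = q ^ 2) (hn1 : 1 ≤ n)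
    (hZ : Subgroup.center (PSUn n F q) = ⊥)
    (hP : sc l * g.1 * gm (τ : F →+* F) P = P)
    (hcore : ∀ N : Subgroup (GL (Fin n) F₀), N ≤ S₀ → (∀ t ∈ S₀, ∀ y ∈ N, t * y * t⁻¹ ∈ N) →
      (∀ y ∈ N, ∃ k, Odd k ∧ y ^ k ∈ Subgroup.center (GL (Fin n) F₀)) →
      N ≤ Subgroup.center (GL (Fin n) F₀))
    (W : Subgroup (MulAut (PSUn n F q))) (hWcop : (Nat.card ↥W).Coprime 2)
    (hWnorm : ∀ k : PSUn n F q, (DhU g * PhU τ : MulAut (PSUn n F q)) k = k → ∀ w ∈ W,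
      MulAut.conj k * w * (MulAut.conj k)⁻¹ ∈ W)
    (s : ↥S₀) (hsW : MulAut.conj (jD τ hτ ι hιτ P S₀ hdet hiso s) ∈ W) :
    jD τ hτ ι hιτ P S₀ hdet hiso s = 1 := by
  classical
  have hcinj := conj_injective_of_center hZ
  let cj : ↥S₀ →* MulAut (PSUn n F q) := (MulAut.conj).comp (jD τ hτ ι hιτ P S₀ hdet hiso)
  have hcj : ∀ t, cj t = MulAut.conj (jD τ hτ ι hιτ P S₀ hdet hiso t) := fun t => rfl
  let N : Subgroup (GL (Fin n) F₀) := (W.comap cj).map S₀.subtype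
  have hmemN : ∀ y : ↥S₀, cj y ∈ W → y.1 ∈ N := fun y hy => ⟨y, hy, rfl⟩
  have hNS : N ≤ S₀ := Subgroup.map_subtype_le _
  have hnorm : ∀ t ∈ S₀, ∀ y ∈ N, t * y * t⁻¹ ∈ N := by
    rintro t ht _ ⟨y, hy, rfl⟩
    have : t * S₀.subtype y * t⁻¹ = ((⟨t, ht⟩ : ↥S₀) * y * (⟨t, ht⟩ : ↥S₀)⁻¹).1 := rfl
    rw [this]
    apply hmemN
    rw [map_mul, map_mul, map_inv, hcj ⟨t, ht⟩]
    exact hWnorm _ (jD_fix τ hτ ι hιτ P S₀ hdet hiso g l hP ⟨t, ht⟩) _ hy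
  have hoddW : Odd (Nat.card ↥W) := Nat.coprime_two_right.1 hWcop
  have hodd : ∀ y ∈ N, ∃ k, Odd k ∧ y ^ k ∈ Subgroup.center (GL (Fin n) F₀) := by
    rintro _ ⟨y, hy, rfl⟩
    refine ⟨Nat.card ↥W, hoddW, ?_⟩
    have h1 : (cj y) ^ Nat.card ↥W = 1 := by
      have h2 : (⟨cj y, hy⟩ : ↥W) ^ Nat.card ↥W = 1 := pow_card_eq_one'
      exact congrArg Subtype.val h2
    rw [← map_pow, hcj] at h1
    have h3 : jD τ hτ ι hιτ P S₀ hdet hiso (y ^ Nat.card ↥W) = 1 := by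
      apply hcinj
      rw [h1, map_one]
    obtain ⟨c, hc⟩ := scalar_of_jD_eq_one τ hτ ι hιτ P S₀ hdet hiso hF hn1 _ h3
    have h4 : (S₀.subtype y) ^ Nat.card ↥W = (y ^ Nat.card ↥W).1 := rfl
    rw [h4]
    exact mem_center_GL_of_scalar _ c hc
  have hcen := hcore N hNS hnorm hodd (hmemN s hsW)
  obtain ⟨c, hc⟩ := scalar_of_mem_center_GL _ hcen
  exact jD_eq_one_of_scalar τ hτ ι hιτ P S₀ hdet hiso s c hc

/-- automorphisms fixing the image of `S₀` pointwise are `1` or `x` -/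
theorem frame_pow (hF : Fintype.card F = q ^ 2) (hn : 3 ≤ n) (hs : ¬ (n = 3 ∧ q = 2))
    (hfac : FacU n F q) (hτ2 : τ ^ 2 = 1)
    (hι : ∀ t : F, τ t = t → ∃ s, ι s = t)
    (hP : sc l * g.1 * gm (τ : F →+* F) P = P)
    (hx2 : (DhU g * PhU τ : MulAut (PSUn n F q)) ^ 2 = 1)
    (hrig : ∀ (h : GL (Fin n) F) (ρ : RingAut F),
      (∀ s ∈ S₀, ∃ ζ : F, h.val * (s.val.map ι).map ρ = ζ • (s.val.map ι * h.val)) →
      (∀ t, ρ (ι t) = ι t) ∧ ∃ c : F, h.val = c • (1 : Matrix (Fin n) (Fin n) F))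
    (w : MulAut (PSUn n F q))
    (hw : ∀ s : ↥S₀, w (jD τ hτ ι hιτ P S₀ hdet hiso s) = jD τ hτ ι hιτ P S₀ hdet hiso s) :
    w ^ 2 = 1 := by
  have hn1 : 1 ≤ n := by omega
  obtain ⟨h', ρ, rfl⟩ := hfac w
  obtain ⟨h, hh⟩ : ∃ h, h = P⁻¹ * h'.1 * gm (ρ : F →+* F) P := ⟨_, rfl⟩
  have hrel : ∀ s ∈ S₀, ∃ ζ : F, h.val * (s.val.map ι).map ρ = ζ • (s.val.map ι * h.val) := by
    intro s hs
    have h1 := hw ⟨s, hs⟩
    rw [jD_apply, MulAut.mul_apply, PhU_pr, DhU_pr] at h1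
    obtain ⟨ζ, hζ⟩ := prC_eq_glS hF hn1 _ _ h1
    rw [glS_conj, glS_field, glS_embSU] at hζ
    unfold cjG at hζ
    refine ⟨(ζ : F)⁻¹, ?_⟩
    have h2 : h * gm (ρ : F →+* F) (gm ι s) = (sc ζ)⁻¹ * (gm ι s * h) := by
      rw [eq_inv_mul_iff_mul_eq]
      have e1 : sc ζ * (h * gm (ρ : F →+* F) (gm ι s)) =
          P⁻¹ * (sc ζ * (h'.1 * gm (ρ : F →+* F) (P * gm ι s * P⁻¹) * h'.1⁻¹)) *
            (h'.1 * gm (ρ : F →+* F) P) := by
        rw [sc_mul_left, hh, map_mul, map_mul, map_inv]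
        group
      rw [e1, ← hζ, hh]
      group
    have h3 := congrArg Units.val h2
    rw [sc_inv_val] at h3
    exact h3
  obtain ⟨hρ, c, hc⟩ := hrig h ρ hrel
  have hc0 : c ≠ 0 := gl_scalar_ne_zero hn1 h c hc
  haveI : Finite F := Finite.of_fintype F
  rcases eq_one_or_eq_of_fix τ ρ hτ2 (fun t ht => by
    obtain ⟨s, rfl⟩ := hι t ht
    exact hρ s) with h1 | h1
  · subst h1
    have e1 : gm ((1 : RingAut F) : F →+* F) P = P := by
      apply Units.ext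
      ext i j
      rfl
    rw [e1] at hh
    have hM : h'.1 = P * h * P⁻¹ := by rw [hh]; group
    have h4 : (DhU h' : MulAut (PSUn n F q)) = 1 := by
      rw [DhU_eq_one_iff hF hn hs]
      refine ⟨Units.mk0 c hc0, ?_⟩
      rw [hM, Units.val_mk0]
      exact conj_scalar_val P h c hc
    rw [h4, map_one, mul_one, one_pow]
  · subst h1
    have hR := g_mul_tauP ρ P g l hP
    have hM : h'.1 = P * h * P⁻¹ * (sc l * g.1) := by
      have e2 : gm (ρ : F →+* F) P = g.1⁻¹ * ((sc l)⁻¹ * P) := by rw [← hR]; group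
      rw [hh, e2]
      group
    have h4 : (DhU h' : MulAut (PSUn n F q)) = DhU g := by
      rw [DhU_eq_iff hF hn hs]
      refine ⟨Units.mk0 c hc0 * l, ?_⟩
      rw [hM, Units.val_mul, conj_scalar_val P h c hc, sc_val, Matrix.smul_mul, Matrix.one_mul,
        smul_smul, Units.val_mul, Units.val_mk0]
    rw [h4]
    exact hx2

end frame

/-- **the frame theorem**: `x = DhU g * PhU τ` an involution, `(l g) τ(P) = P`, `S₀` a group of
rational isometries of the Gram matrix `G = τ(P)ᵀ P`, normalised by the rational similitudes of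
`G`, rigid, and without non-central normal subgroups of odd order modulo scalars. -/
theorem frame_core_trivial [Fintype F]
    (hF : Fintype.card F = q ^ 2) (hn : 3 ≤ n) (hs : ¬ (n = 3 ∧ q = 2))
    (hfac : FacU n F q) (hZ : Subgroup.center (PSUn n F q) = ⊥)
    (τ : RingAut F) (hτ : ∀ t, τ t = t ^ q) (hτ2 : τ ^ 2 = 1) (hτ1 : τ ≠ 1)
    (ι : F₀ →+* F) (hιτ : ∀ s, τ (ι s) = ι s) (hι : ∀ t : F, τ t = t → ∃ s, ι s = t)
    (P : GL (Fin n) F) (S₀ : Subgroup (GL (Fin n) F₀)) (hdet : ∀ s ∈ S₀, s.val.det = 1)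
    (hiso : ∀ s ∈ S₀, (s.val.map ι)ᵀ * ((P.val.map τ)ᵀ * P.val) * s.val.map ι =
      (P.val.map τ)ᵀ * P.val)
    (g : ↥(Cfsg.GU n F q)) (l : Fˣ) (hP : sc l * g.1 * gm (τ : F →+* F) P = P)
    (hx2 : (DhU g * PhU τ : MulAut (PSUn n F q)) ^ 2 = 1)
    (hsim : ∀ m₀ : GL (Fin n) F₀, (∃ μ : F, (m₀.val.map ι)ᵀ * ((P.val.map τ)ᵀ * P.val) *
      m₀.val.map ι = μ • ((P.val.map τ)ᵀ * P.val)) → ∀ s ∈ S₀, m₀ * s * m₀⁻¹ ∈ S₀)
    (hrig : ∀ (h : GL (Fin n) F) (ρ : RingAut F),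
      (∀ s ∈ S₀, ∃ ζ : F, h.val * (s.val.map ι).map ρ = ζ • (s.val.map ι * h.val)) →
      (∀ t, ρ (ι t) = ι t) ∧ ∃ c : F, h.val = c • (1 : Matrix (Fin n) (Fin n) F))
    (hcore : ∀ N : Subgroup (GL (Fin n) F₀), N ≤ S₀ → (∀ t ∈ S₀, ∀ y ∈ N, t * y * t⁻¹ ∈ N) →
      (∀ y ∈ N, ∃ k, Odd k ∧ y ^ k ∈ Subgroup.center (GL (Fin n) F₀)) →
      N ≤ Subgroup.center (GL (Fin n) F₀)) :
    CoreTrivialU (DhU g * PhU τ : MulAut (PSUn n F q)) 2 := by
  have hn1 : 1 ≤ n := by omega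
  intro W hWcop hWcent hWnorm
  exact Cfsg.Agent.Lib.Helper8.BalL.core_trivial_of_meet (p := 2)
    (DhU g * PhU τ : MulAut (PSUn n F q)) (jD τ hτ ι hιτ P S₀ hdet hiso)
    (jD_fix τ hτ ι hιτ P S₀ hdet hiso g l hP)
    (jD_norm τ hτ ι hιτ P S₀ hdet hiso g l hF hn1 hτ2 hτ1 hι hP hsim)
    (frame_cent τ hτ ι hιτ P S₀ hdet hiso hF hn1 hrig)
    W hWcop hWcent hWnorm
    (frame_B1 τ hτ ι hιτ P S₀ hdet hiso g l hF hn1 hZ hP hcore W hWcop hWnorm)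
    (fun w _ hw => frame_pow τ hτ ι hιτ P S₀ hdet hiso g l hF hn hs hfac hτ2 hι hP hx2 hrig w hw)

end Cfsg.Agent.Lib.H7BalU
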