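import Cfsg.Agent.Lib.Helper7.AutPSU.FinalU
import Cfsg.Agent.Lib.Helper7.AutPSU.CosetU

/-!
# Local balance for `PSU_n`: involutions in the coset of the Frobenius involution (helper7)

An involution `x = DhU g * PhU τ` (`τ` the `q`-Frobenius) gives `g τ(g) = c₀ = ± 1`, a scalar `l`
with `l τ(l) = c₀`, and by Hilbert 90 an invertible `P` with `(l g) τ(P) = P`.  The Gram matrix
`H = Pᵀ τ(P)` of the Hermitian form in the new coordinates satisfies `Hᵀ = c₀ H`.
-/

set_option autoImplicit false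
set_option linter.unusedSectionVars false

namespace Cfsg.Agent.Lib.H7BalU

open Matrix Cfsg Cfsg.Agent.Lib.H7AutPSp Cfsg.Agent.Lib.H7AutPSU Cfsg.Agent.Lib.H7AutPSL

variable {n : ℕ} {F : Type*} [Field F] {q : ℕ}

theorem map_transposeU (ρ : RingAut F) (A : Matrix (Fin n) (Fin n) F) :
    (Aᵀ).map ρ = (A.map ρ)ᵀ := by
  ext i j
  rfl

theorem fnorm_two (τ : RingAut F) (μ : F) : fnorm τ μ 2 = μ * τ μ := by
  unfold fnorm
  rw [Finset.prod_range_succ, Finset.prod_range_one, pow_zero, pow_one]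
  rfl

theorem pnorm_two (τ : RingAut F) (M : Matrix (Fin n) (Fin n) F) :
    pnorm τ M 2 = M * M.map τ := by
  show M * (M * (1 : Matrix (Fin n) (Fin n) F).map τ).map τ = _
  rw [map_oneU, Matrix.mul_one]

theorem hinj_two (τ : RingAut F) (hτ1 : τ ≠ 1) :
    ∀ i j, i < 2 → j < 2 → τ ^ i = τ ^ j → i = j := by
  intro i j hi hj hij
  interval_cases i <;> interval_cases j
  · rfl
  · rw [pow_zero, pow_one] at hij
    exact absurd hij.symm hτ1
  · rw [pow_zero, pow_one] at hij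
    exact absurd hij hτ1
  · rfl

section finite

variable [Fintype F]

/-- **the descent data of an involution in the Frobenius coset** -/
theorem invol_descent (hF : Fintype.card F = q ^ 2) (hn : 3 ≤ n) (hs : ¬ (n = 3 ∧ q = 2))
    (τ : RingAut F) (hτ : ∀ t, τ t = t ^ q) (hτ2 : τ ^ 2 = 1) (hτ1 : τ ≠ 1)
    (g : ↥(Cfsg.GU n F q)) (hx : (DhU g * PhU τ : MulAut (PSUn n F q)) ^ 2 = 1) :
    ∃ (c₀ l : F) (P : Matrix (Fin n) (Fin n) F), (c₀ = 1 ∨ c₀ = -1) ∧ l * τ l = c₀ ∧ IsUnit P ∧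
      (l • g.1.val) * P.map τ = P ∧ (Pᵀ * P.map τ)ᵀ = c₀ • (Pᵀ * P.map τ) := by
  rw [coset_pow_U, hτ2, map_one, mul_one, DhU_eq_one_iff hF hn hs] at hx
  obtain ⟨c, hc⟩ := hx
  rw [gnormU_val, pnorm_two] at hc
  have hG2 := GU_mul_transpose τ hτ g
  have hginv : g.1⁻¹.val * g.1.val = 1 := by rw [← Units.val_mul, inv_mul_cancel, Units.val_one]
  have hginv' : g.1.val * g.1⁻¹.val = 1 := by rw [← Units.val_mul, mul_inv_cancel, Units.val_one]
  -- `τ(g) = c g⁻¹` and `τ(g)ᵀ = g⁻¹`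
  have h1 : g.1.val.map τ = (c : F) • g.1⁻¹.val := by
    have := congrArg (fun M => g.1⁻¹.val * M) hc
    simp only [← Matrix.mul_assoc, hginv, Matrix.one_mul, Matrix.mul_smul, Matrix.mul_one] at this
    exact this
  have h3 : (g.1.val.map τ)ᵀ = g.1⁻¹.val := by
    have := congrArg (fun M => g.1⁻¹.val * M) hG2
    simp only [← Matrix.mul_assoc, hginv, Matrix.one_mul, Matrix.mul_one] at this
    exact this
  -- `g⁻ᵀ = c g⁻¹`
  have h4 : (g.1⁻¹.val)ᵀ = (c : F) • g.1⁻¹.val := by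
    rw [← h1, ← h3, Matrix.transpose_transpose]
  have hcc : (c : F) * c = 1 := by
    have h5 : g.1⁻¹.val = ((c : F) * c) • g.1⁻¹.val := by
      have := congrArg Matrix.transpose h4
      rw [Matrix.transpose_transpose, Matrix.transpose_smul, h4, smul_smul] at this
      exact this
    have h6 := congrArg (fun M => M * g.1.val) h5
    simp only [Matrix.smul_mul, hginv] at h6
    have h7 := congrFun (congrFun h6 ⟨0, by omega⟩) ⟨0, by omega⟩
    rw [Matrix.smul_apply, Matrix.one_apply_eq, smul_eq_mul, mul_one] at h7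
    exact h7.symm
  have hc₀ : (c : F) = 1 ∨ (c : F) = -1 := by
    have : ((c : F) - 1) * ((c : F) + 1) = 0 := by linear_combination hcc
    rcases mul_eq_zero.1 this with h | h
    · exact Or.inl (sub_eq_zero.1 h)
    · exact Or.inr (eq_neg_of_add_eq_zero_left h)
  have hτc : τ (c : F) = c := by
    rcases hc₀ with h | h
    · rw [h, map_one]
    · rw [h, map_neg, map_one]
  -- `gᵀ = c g`
  have hgT : (g.1.val)ᵀ = (c : F) • g.1.val := by
    have h5 : (g.1.val)ᵀ * (g.1⁻¹.val)ᵀ = 1 := by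
      rw [← Matrix.transpose_mul, hginv, Matrix.transpose_one]
    rw [h4, Matrix.mul_smul] at h5
    have h6 := congrArg (fun M => (c : F) • (M * g.1.val)) h5
    simp only [Matrix.smul_mul, Matrix.mul_assoc, hginv, Matrix.mul_one, Matrix.one_mul, smul_smul,
      hcc, one_smul] at h6
    exact h6
  -- the scalar `l`
  obtain ⟨l, hl0, hl⟩ : ∃ l : F, l ≠ 0 ∧ l * τ l = c := by
    obtain ⟨μ, hμ0, hμ⟩ := norm_surj τ 2 (by norm_num) hτ2 (hinj_two τ hτ1) (c : F) c.ne_zero hτc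
    rw [fnorm_two] at hμ
    exact ⟨μ, hμ0, hμ⟩
  have hN : pnorm τ (l • g.1.val) 2 = 1 := by
    rw [pnorm_smul, fnorm_two, pnorm_two, hc, hl, smul_smul, hcc, one_smul]
  obtain ⟨P, hPu, hP⟩ := hilbert90_matrix τ 2 (by norm_num) hτ2 (hinj_two τ hτ1) (l • g.1.val) hN
  refine ⟨c, l, P, hc₀, hl, hPu, hP, ?_⟩
  -- symmetry type of the Gram matrix
  obtain ⟨T, hT⟩ : ∃ T, T = P.map τ := ⟨_, rfl⟩
  rw [← hT] at hP ⊢
  rw [Matrix.transpose_mul, Matrix.transpose_transpose]
  have e1 : Pᵀ = Tᵀ * (l • (c : F) • g.1.val) := by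
    rw [← hP, Matrix.transpose_mul, Matrix.transpose_smul, hgT]
  rw [e1]
  conv_lhs => rw [← hP]
  simp only [Matrix.mul_smul, Matrix.smul_mul, Matrix.mul_assoc, smul_smul]
  congr 1
  linear_combination (-l) * hcc

end finite

end Cfsg.Agent.Lib.H7BalU
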