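import Cfsg.Agent.Lib.Helper7.BalU.UA
import Cfsg.Agent.Lib.Helper7.AutPSU.SplitU
import Cfsg.Agent.Lib.Helper7.AutPSL.FixedField

/-!
# Local balance for `PSU_n`: generalities (helper7)

Central elements of `SU_n` are scalar; equality in `PSU_n`; automorphisms of a finite field fixing
the fixed field of an involution.
-/

set_option autoImplicit false
set_option linter.unusedSectionVars false
set_option linter.style.haveILetI false

namespace Cfsg.Agent.Lib.H7BalU

open Matrix Cfsg Cfsg.Agent.Lib.H7AutPSp Cfsg.Agent.Lib.H7AutPSU Cfsg.Agent.Lib.H7AutPSL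

variable {n : ℕ} {F : Type*} [Field F] {q : ℕ}

section galois

/-- an automorphism of a finite field fixing the fixed field of an involution `τ` pointwise is
`1` or `τ` -/
theorem eq_one_or_eq_of_fix [Finite F] (τ ρ : RingAut F) (hτ2 : τ ^ 2 = 1)
    (h : ∀ t, τ t = t → ρ t = t) : ρ = 1 ∨ ρ = τ := by
  haveI : Finite (RingAut F) := Finite.of_injective (fun f : RingAut F => (f : F → F))
    DFunLike.coe_injective
  let f : F ≃ₐ[FixedPoints.subfield (Subgroup.zpowers τ) F] F :=
    AlgEquiv.ofRingEquiv (f := ρ) (fun x => h x.1 ((mem_fixed_iff τ x.1).1 x.2))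
  obtain ⟨⟨κ, hκ⟩, hg⟩ := FixedPoints.toAlgAut_surjective (Subgroup.zpowers τ) F f
  have hρ : ρ = κ := by
    ext t
    have := AlgEquiv.congr_fun hg t
    exact this.symm
  obtain ⟨k, rfl⟩ := Subgroup.mem_zpowers_iff.1 hκ
  rcases Int.even_or_odd k with ⟨j, hj⟩ | ⟨j, hj⟩
  · left
    rw [hρ, hj, ← two_mul, _root_.zpow_mul, zpow_ofNat, hτ2, _root_.one_zpow]
  · right
    rw [hρ, hj, _root_.zpow_add, _root_.zpow_mul, zpow_ofNat, hτ2, _root_.one_zpow, one_mul, zpow_one]

end galois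

section su

variable [Fintype F]

/-- central elements of `SU_n` are scalar -/
theorem center_SU_scalar (hF : Fintype.card F = q ^ 2) (hn : 1 ≤ n) (z : SUn n F q)
    (hz : z ∈ Subgroup.center (SUn n F q)) :
    ∃ a : Fˣ, z.1.1 = (a : F) • (1 : Matrix (Fin n) (Fin n) F) := by
  have h1 : conjSU (toGU z) = 1 := by
    rw [conjSU_toGU]
    ext t : 1
    rw [MulAut.conj_apply, MulAut.one_apply, ← Subgroup.mem_center_iff.1 hz t,
      mul_inv_cancel_right]
  obtain ⟨a, ha⟩ := scalar_of_conjSU_eq_one hF hn (toGU z) h1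
  exact ⟨a, ha⟩

/-- equal classes in `PSU_n` differ by a scalar -/
theorem prC_eq_smul (hF : Fintype.card F = q ^ 2) (hn : 1 ≤ n) (a b : SUn n F q)
    (h : (prC a : PSUn n F q) = prC b) : ∃ ζ : Fˣ, b.1.1 = (ζ : F) • a.1.1 := by
  rw [prC_eq_iff] at h
  obtain ⟨ζ, hζ⟩ := center_SU_scalar hF hn _ h
  refine ⟨ζ, ?_⟩
  have h1 : (a⁻¹ * b).1.1 = a⁻¹.1.1 * b.1.1 := rfl
  have h3 : a.1.1 * a⁻¹.1.1 = 1 := by
    rw [← su_mul_val, mul_inv_cancel]
    rfl
  rw [h1] at hζ
  have := congrArg (fun M => a.1.1 * M) hζ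
  simp only [← Matrix.mul_assoc, h3, Matrix.one_mul, Matrix.mul_smul, Matrix.mul_one] at this
  exact this

omit [Fintype F] in
/-- scalar elements of `SU_n` are trivial in `PSU_n` -/
theorem prC_eq_one_of_scalar (m : SUn n F q) (c : F)
    (h : m.1.1 = c • (1 : Matrix (Fin n) (Fin n) F)) : (prC m : PSUn n F q) = 1 := by
  have : m ∈ Subgroup.center (SUn n F q) := by
    rw [Subgroup.mem_center_iff]
    intro t
    apply su_ext
    rw [su_mul_val, su_mul_val, h, Matrix.smul_mul, Matrix.mul_smul, Matrix.one_mul,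
      Matrix.mul_one]
  exact (QuotientGroup.eq_one_iff m).2 this

end su

end Cfsg.Agent.Lib.H7BalU
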