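import Cfsg.Agent.Lib.Helper7.BalU.UB
import Cfsg.Agent.Lib.Helper8.BalL.Abs

/-!
# Local balance for `PSU_n`: the subgroup of rational isometries (helper7)

`P` an invertible matrix, `S₀` a group of matrices of determinant one over a subfield `F₀` (fixed
by `τ`) preserving the Gram matrix `(τ P)ᵀ P`: the embedding `s ↦ P s P⁻¹` of `S₀` in `SU_n`.
-/

set_option autoImplicit false
set_option linter.unusedSectionVars false
set_option linter.style.haveILetI false

namespace Cfsg.Agent.Lib.H7BalU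

open Matrix Cfsg Cfsg.Agent.Lib.H7AutPSp Cfsg.Agent.Lib.H7AutPSU Cfsg.Agent.Lib.H7AutPSL

variable {n : ℕ} {F : Type*} [Field F] {q : ℕ} {F₀ : Type*} [Field F₀]

/-! ### special unitary matrices as invertible matrices -/

/-- the invertible matrix of a special unitary matrix -/
def glS (m : SUn n F q) : GL (Fin n) F := (toGU m).1

theorem glS_val (m : SUn n F q) : (glS m).val = m.1.1 := rfl

theorem glS_mul (a b : SUn n F q) : glS (a * b) = glS a * glS b := by
  apply Units.ext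
  rfl

theorem glS_one : glS (1 : SUn n F q) = 1 := by
  apply Units.ext
  rfl

theorem glS_inv (a : SUn n F q) : glS a⁻¹ = (glS a)⁻¹ := by
  rw [eq_inv_iff_mul_eq_one, ← glS_mul, inv_mul_cancel, glS_one]

theorem glS_injective : Function.Injective (glS : SUn n F q → GL (Fin n) F) := by
  intro a b h
  apply su_ext
  exact congrArg Units.val h

theorem glS_conj (g : ↥(Cfsg.GU n F q)) (m : SUn n F q) :
    glS (conjSUFun g m) = g.1 * glS m * g.1⁻¹ := by
  apply Units.ext
  rfl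

theorem glS_field (σ : RingAut F) (m : SUn n F q) :
    glS (fieldSUFun σ m) = Matrix.GeneralLinearGroup.map (σ : F →+* F) (glS m) := by
  apply Units.ext
  rfl

theorem scalar_val (ζ : Fˣ) (A : Matrix (Fin n) (Fin n) F) :
    (Matrix.GeneralLinearGroup.scalar (Fin n) ζ).val * A = (ζ : F) • A := by
  rw [Matrix.GeneralLinearGroup.coe_scalar, Matrix.scalar_apply, ← Matrix.smul_eq_diagonal_mul]

theorem prC_eq_glS [Fintype F] (hF : Fintype.card F = q ^ 2) (hn : 1 ≤ n) (a b : SUn n F q)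
    (h : (prC a : PSUn n F q) = prC b) :
    ∃ ζ : Fˣ, glS b = Matrix.GeneralLinearGroup.scalar (Fin n) ζ * glS a := by
  obtain ⟨ζ, hζ⟩ := prC_eq_smul hF hn a b h
  refine ⟨ζ, ?_⟩
  apply Units.ext
  rw [Units.val_mul, scalar_val, glS_val, glS_val, hζ]

theorem prC_eq_one_of_glS (m : SUn n F q) (ζ : Fˣ)
    (h : glS m = Matrix.GeneralLinearGroup.scalar (Fin n) ζ) : (prC m : PSUn n F q) = 1 := by
  apply prC_eq_one_of_scalar m (ζ : F)
  have := congrArg Units.val h
  rw [glS_val] at this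
  rw [this, Matrix.GeneralLinearGroup.coe_scalar, Matrix.scalar_apply, Matrix.smul_one_eq_diagonal]

/-! ### the embedding -/

section emb

variable (τ : RingAut F) (hτ : ∀ t, τ t = t ^ q) (ι : F₀ →+* F) (hιτ : ∀ s, τ (ι s) = ι s)
  (P : GL (Fin n) F) (S₀ : Subgroup (GL (Fin n) F₀)) (hdet : ∀ s ∈ S₀, s.val.det = 1)
  (hiso : ∀ s ∈ S₀, (s.val.map ι)ᵀ * ((P.val.map τ)ᵀ * P.val) * s.val.map ι =
    (P.val.map τ)ᵀ * P.val)

/-- the conjugate `P A P⁻¹` -/
def cjG (A : GL (Fin n) F) : GL (Fin n) F := P * A * P⁻¹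

include hιτ in
theorem map_tau_iota (s : GL (Fin n) F₀) :
    Matrix.GeneralLinearGroup.map (τ : F →+* F) (Matrix.GeneralLinearGroup.map ι s) =
      Matrix.GeneralLinearGroup.map ι s := by
  apply Units.ext
  ext i j
  exact hιτ _

include hτ hιτ hiso in
theorem cjG_mem_GU (s : GL (Fin n) F₀) (hs : s ∈ S₀) :
    cjG P (Matrix.GeneralLinearGroup.map ι s) ∈ Cfsg.GU n F q := by
  rw [mem_GU_iff τ q hτ]
  apply _root_.mul_eq_one_comm.1
  have e1 : (cjG P (Matrix.GeneralLinearGroup.map ι s)).val.map τ =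
      P.val.map τ * s.val.map ι * P⁻¹.val.map τ := by
    have h1 := congrArg Units.val (map_tau_iota τ ι hιτ s)
    have h3 : (cjG P (Matrix.GeneralLinearGroup.map ι s)).val =
        P.val * (Matrix.GeneralLinearGroup.map ι s).val * P⁻¹.val := rfl
    rw [h3, map_mulU, map_mulU]
    congr 2
  have e2 : P.val.map τ * P⁻¹.val.map τ = 1 := by
    rw [← map_mulU, ← Units.val_mul, mul_inv_cancel, Units.val_one, map_oneU]
  have e3 : (P⁻¹.val.map τ)ᵀ * (P.val.map τ)ᵀ = 1 := by
    rw [← Matrix.transpose_mul, e2, Matrix.transpose_one]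
  have e4 : P.val * P⁻¹.val = 1 := by rw [← Units.val_mul, mul_inv_cancel, Units.val_one]
  rw [e1, Matrix.transpose_mul, Matrix.transpose_mul]
  have h3 : (cjG P (Matrix.GeneralLinearGroup.map ι s)).val =
      P.val * s.val.map ι * P⁻¹.val := rfl
  rw [h3]
  calc (P⁻¹.val.map τ)ᵀ * ((s.val.map ι)ᵀ * (P.val.map τ)ᵀ) * (P.val * s.val.map ι * P⁻¹.val)
      = (P⁻¹.val.map τ)ᵀ * ((s.val.map ι)ᵀ * ((P.val.map τ)ᵀ * P.val) * s.val.map ι) *
          P⁻¹.val := by simp only [Matrix.mul_assoc]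
    _ = (P⁻¹.val.map τ)ᵀ * (P.val.map τ)ᵀ * (P.val * P⁻¹.val) := by
        rw [hiso s hs]; simp only [Matrix.mul_assoc]
    _ = 1 := by rw [e3, e4, Matrix.mul_one]

include hdet in
theorem cjG_det (s : GL (Fin n) F₀) (hs : s ∈ S₀) :
    (cjG P (Matrix.GeneralLinearGroup.map ι s)).val.det = 1 := by
  have h3 : (cjG P (Matrix.GeneralLinearGroup.map ι s)).val =
      P.val * s.val.map ι * P⁻¹.val := rfl
  rw [h3, Matrix.det_units_conj]
  have : s.val.map ι = ι.mapMatrix s.val := rfl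
  rw [this, ← RingHom.map_det, hdet s hs, map_one]

/-- the embedding of `S₀` in `SU_n` -/
def embSU : ↥S₀ →* SUn n F q where
  toFun s := ⟨⟨(cjG P (Matrix.GeneralLinearGroup.map ι s.1)).val, cjG_det ι P S₀ hdet s.1 s.2⟩,
    cjG_mem_GU τ hτ ι hιτ P S₀ hiso s.1 s.2⟩
  map_one' := by
    apply su_ext
    show (cjG P (Matrix.GeneralLinearGroup.map ι (1 : GL (Fin n) F₀))).val = 1
    unfold cjG
    rw [map_one, mul_one, mul_inv_cancel, Units.val_one]
  map_mul' a b := by
    apply su_ext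
    show (cjG P (Matrix.GeneralLinearGroup.map ι (a.1 * b.1))).val =
      (cjG P (Matrix.GeneralLinearGroup.map ι a.1)).val *
        (cjG P (Matrix.GeneralLinearGroup.map ι b.1)).val
    rw [← Units.val_mul]
    congr 1
    unfold cjG
    rw [map_mul]
    group

theorem glS_embSU (s : ↥S₀) :
    glS (embSU τ hτ ι hιτ P S₀ hdet hiso s) = cjG P (Matrix.GeneralLinearGroup.map ι s.1) := by
  apply Units.ext
  rfl

/-- the embedding of `S₀` in `PSU_n` -/
noncomputable def jD : ↥S₀ →* PSUn n F q := prC.comp (embSU τ hτ ι hιτ P S₀ hdet hiso)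

theorem jD_apply (s : ↥S₀) :
    jD τ hτ ι hιτ P S₀ hdet hiso s = prC (embSU τ hτ ι hιτ P S₀ hdet hiso s) := rfl

end emb

end Cfsg.Agent.Lib.H7BalU
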