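import Cfsg.Agent.Lib.Helper7.BalU.UC

/-!
# Local balance for `PSU_n`: the frame for involutions in the Frobenius coset (helper7)

`x = DhU g * PhU τ`, `(l g) τ(P) = P`; the image of the rational isometry group `S₀` under
`s ↦ P s P⁻¹` is fixed by `x` and normalised by the fixed points of `x`.
-/

set_option autoImplicit false
set_option linter.unusedSectionVars false
set_option linter.style.haveILetI false

namespace Cfsg.Agent.Lib.H7BalU

open Matrix Cfsg Cfsg.Agent.Lib.H7AutPSp Cfsg.Agent.Lib.H7AutPSU Cfsg.Agent.Lib.H7AutPSL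

variable {n : ℕ} {F : Type*} [Field F] {q : ℕ} {F₀ : Type*} [Field F₀]

local notation "sc" => Matrix.GeneralLinearGroup.scalar (Fin n)
local notation "gm" => Matrix.GeneralLinearGroup.map

theorem sc_conj (c : Fˣ) (X : GL (Fin n) F) : (sc c)⁻¹ * X * sc c = X := by
  rw [mul_assoc, ← Matrix.GeneralLinearGroup.scalar_commute, inv_mul_cancel_left]

theorem sc_conj' (c : Fˣ) (X : GL (Fin n) F) : sc c * X * (sc c)⁻¹ = X := by
  rw [Matrix.GeneralLinearGroup.scalar_commute, mul_inv_cancel_right]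

theorem gm_sc (ρ : RingAut F) (c : Fˣ) :
    gm (ρ : F →+* F) (sc c) = sc (Units.map (ρ : F →+* F).toMonoidHom c) := by
  apply Units.ext
  ext i j
  show ρ ((Matrix.scalar (Fin n) (c : F)) i j) = (Matrix.scalar (Fin n) (ρ (c : F))) i j
  rw [Matrix.scalar_apply, Matrix.scalar_apply, Matrix.diagonal_apply, Matrix.diagonal_apply]
  split_ifs
  · rfl
  · exact map_zero ρ

section frame

variable (τ : RingAut F) (hτ : ∀ t, τ t = t ^ q) (ι : F₀ →+* F) (hιτ : ∀ s, τ (ι s) = ι s)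
  (P : GL (Fin n) F) (S₀ : Subgroup (GL (Fin n) F₀)) (hdet : ∀ s ∈ S₀, s.val.det = 1)
  (hiso : ∀ s ∈ S₀, (s.val.map ι)ᵀ * ((P.val.map τ)ᵀ * P.val) * s.val.map ι =
    (P.val.map τ)ᵀ * P.val)
  (g : ↥(Cfsg.GU n F q)) (l : Fˣ)

theorem g_mul_tauP (hP : sc l * g.1 * gm (τ : F →+* F) P = P) :
    g.1 * gm (τ : F →+* F) P = (sc l)⁻¹ * P := by
  have : g.1 * gm (τ : F →+* F) P = (sc l)⁻¹ * (sc l * g.1 * gm (τ : F →+* F) P) := by group
  rw [this, hP]

/-- the image of `S₀` is fixed by `x` -/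
theorem jD_fix (hP : sc l * g.1 * gm (τ : F →+* F) P = P) (s : ↥S₀) :
    (DhU g * PhU τ : MulAut (PSUn n F q)) (jD τ hτ ι hιτ P S₀ hdet hiso s) =
      jD τ hτ ι hιτ P S₀ hdet hiso s := by
  rw [jD_apply, MulAut.mul_apply, PhU_pr, DhU_pr]
  congr 1
  apply glS_injective
  rw [glS_conj, glS_field, glS_embSU]
  have hR := g_mul_tauP τ P g l hP
  unfold cjG
  calc g.1 * gm (τ : F →+* F) (P * gm ι s.1 * P⁻¹) * g.1⁻¹
      = (g.1 * gm (τ : F →+* F) P) * gm ι s.1 * (g.1 * gm (τ : F →+* F) P)⁻¹ := by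
        rw [map_mul, map_mul, map_inv, map_tau_iota τ ι hιτ]
        group
    _ = (sc l)⁻¹ * (P * gm ι s.1 * P⁻¹) * sc l := by
        rw [hR]
        group
    _ = P * gm ι s.1 * P⁻¹ := sc_conj l _

omit [Field F₀] in
theorem sc_val (c : Fˣ) (A : GL (Fin n) F) : (sc c * A).val = (c : F) • A.val := by
  rw [Units.val_mul, scalar_val]

omit [Field F₀] in
theorem sc_inv_val (c : Fˣ) (A : GL (Fin n) F) : ((sc c)⁻¹ * A).val = (c : F)⁻¹ • A.val := by
  have h : (sc c)⁻¹ = sc c⁻¹ := (MonoidHom.map_inv _ c).symm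
  rw [h, sc_val, Units.val_inv_eq_inv_val]

/-- a `τ`-fixed invertible matrix comes from `F₀` -/
theorem exists_gm_eq (hι : ∀ t : F, τ t = t → ∃ s, ι s = t) (X : GL (Fin n) F)
    (hX : gm (τ : F →+* F) X = X) : ∃ m₀ : GL (Fin n) F₀, gm ι m₀ = X := by
  have hent : ∀ i j, ∃ s : F₀, ι s = X.val i j := by
    intro i j
    apply hι
    have := congrArg (fun A : GL (Fin n) F => A.val i j) hX
    exact this
  choose f hf using hent
  have hmap : (Matrix.of f).map ι = X.val := by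
    ext i j
    rw [Matrix.map_apply, Matrix.of_apply, hf]
  have hdet : (Matrix.of f).det ≠ 0 := by
    intro h0
    have h1 : ι.mapMatrix (Matrix.of f) = X.val := hmap
    have h3 : X.val.det = 0 := by
      rw [← h1, ← RingHom.map_det, h0, map_zero]
    have h4 : IsUnit X.val.det := (Matrix.isUnit_iff_isUnit_det _).1 X.isUnit
    rw [h3] at h4
    exact not_isUnit_zero h4
  refine ⟨Matrix.GeneralLinearGroup.mkOfDetNeZero (Matrix.of f) hdet, ?_⟩
  apply Units.ext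
  exact hmap

variable [Fintype F]

include hτ in
set_option maxHeartbeats 800000 in
/-- fixed points of `x` come from rational similitudes -/
theorem fixed_lift (hF : Fintype.card F = q ^ 2) (hn1 : 1 ≤ n) (hτ2 : τ ^ 2 = 1) (hτ1 : τ ≠ 1)
    (hι : ∀ t : F, τ t = t → ∃ s, ι s = t)
    (hP : sc l * g.1 * gm (τ : F →+* F) P = P) (m : SUn n F q)
    (hm : (DhU g * PhU τ : MulAut (PSUn n F q)) (prC m) = prC m) :
    ∃ (m₀ : GL (Fin n) F₀) (b : Fˣ), gm ι m₀ = sc b * (P⁻¹ * glS m * P) ∧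
      ∃ μ : F, (m₀.val.map ι)ᵀ * ((P.val.map τ)ᵀ * P.val) * m₀.val.map ι =
        μ • ((P.val.map τ)ᵀ * P.val) := by
  rw [MulAut.mul_apply, PhU_pr, DhU_pr] at hm
  obtain ⟨ζ, hζ⟩ := prC_eq_glS hF hn1 _ _ hm
  rw [glS_conj, glS_field] at hζ
  have hR := g_mul_tauP τ P g l hP
  obtain ⟨M, hM⟩ : ∃ M, M = glS m := ⟨_, rfl⟩
  rw [← hM] at hζ ⊢
  -- `τ(M) = g⁻¹ ζ⁻¹ M g`
  have h1 : gm (τ : F →+* F) M = g.1⁻¹ * ((sc ζ)⁻¹ * M) * g.1 := by
    have h0 : (sc ζ)⁻¹ * M = g.1 * gm (τ : F →+* F) M * g.1⁻¹ := by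
      rw [inv_mul_eq_iff_eq_mul]
      exact hζ
    rw [h0]
    group
  -- `τ(m') = ζ⁻¹ m'`
  have hstar : gm (τ : F →+* F) (P⁻¹ * M * P) = (sc ζ)⁻¹ * (P⁻¹ * M * P) := by
    calc gm (τ : F →+* F) (P⁻¹ * M * P)
        = (g.1 * gm (τ : F →+* F) P)⁻¹ * ((sc ζ)⁻¹ * M) * (g.1 * gm (τ : F →+* F) P) := by
          rw [map_mul, map_mul, map_inv, h1]
          group
      _ = P⁻¹ * (sc l * ((sc ζ)⁻¹ * M) * (sc l)⁻¹) * P := by
          rw [hR]
          group
      _ = P⁻¹ * ((sc ζ)⁻¹ * M) * P := by rw [sc_conj']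
      _ = (sc ζ)⁻¹ * (P⁻¹ * M * P) := by
          have : P⁻¹ * ((sc ζ)⁻¹ * M) = (sc ζ)⁻¹ * (P⁻¹ * M) := by
            rw [← mul_assoc, ← mul_assoc]
            congr 1
            rw [← map_inv, Matrix.GeneralLinearGroup.scalar_commute]
          rw [this]
          group
  obtain ⟨m', hm'⟩ : ∃ m', m' = P⁻¹ * M * P := ⟨_, rfl⟩
  rw [← hm'] at hstar ⊢
  have hE : m'.val.map τ = (ζ : F)⁻¹ • m'.val := by
    have := congrArg Units.val hstar
    rw [sc_inv_val] at this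
    exact this
  -- the norm of `ζ`
  have hmm : m'.val * m'⁻¹.val = 1 := by rw [← Units.val_mul, mul_inv_cancel, Units.val_one]
  have hζN : (ζ : F)⁻¹ * τ (ζ : F)⁻¹ = 1 := by
    have h3 : m'.val = (τ (ζ : F)⁻¹ * (ζ : F)⁻¹) • m'.val := by
      have := congrArg (fun A => A.map τ) hE
      beta_reduce at this
      rw [map_map_sq τ hτ2, map_smulU, hE, smul_smul] at this
      exact this
    have h4 := congrArg (fun A => A * m'⁻¹.val) h3
    simp only [Matrix.smul_mul, hmm] at h4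
    have h5 := congrFun (congrFun h4 ⟨0, hn1⟩) ⟨0, hn1⟩
    rw [Matrix.smul_apply, Matrix.one_apply_eq, smul_eq_mul, mul_one] at h5
    rw [mul_comm]
    exact h5.symm
  obtain ⟨b, hb0, hb⟩ := hilbert90_field τ 2 (by norm_num) hτ2 (hinj_two τ hτ1) (ζ : F)⁻¹
    (by rw [fnorm_two]; exact hζN)
  have hX : gm (τ : F →+* F) (sc (Units.mk0 b hb0) * m') = sc (Units.mk0 b hb0) * m' := by
    apply Units.ext
    have e1 : (gm (τ : F →+* F) (sc (Units.mk0 b hb0) * m')).val =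
        ((sc (Units.mk0 b hb0) * m').val).map τ := rfl
    rw [e1, sc_val, map_smulU, hE, smul_smul, Units.val_mk0, mul_comm, hb]
  obtain ⟨m₀, hm₀⟩ := exists_gm_eq τ ι hι _ hX
  refine ⟨m₀, Units.mk0 b hb0, hm₀, ?_⟩
  -- the similitude property
  have hval : m₀.val.map ι = b • m'.val := by
    have := congrArg Units.val hm₀
    rw [sc_val, Units.val_mk0] at this
    exact this
  have hMU : (M.val.map τ)ᵀ * M.val = 1 := by
    apply _root_.mul_eq_one_comm.1
    have h5 : (toGU m).1 ∈ Cfsg.GU n F q := (toGU m).2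
    rw [mem_GU_iff τ q hτ] at h5
    rw [hM]
    exact h5
  have hMP : M.val = P.val * m'.val * P⁻¹.val := by
    have : M = P * m' * P⁻¹ := by rw [hm']; group
    rw [this]
    rfl
  have hPP : P⁻¹.val * P.val = 1 := by rw [← Units.val_mul, inv_mul_cancel, Units.val_one]
  have hτPP : P.val.map τ * P⁻¹.val.map τ = 1 := by
    rw [← map_mulU, ← Units.val_mul, mul_inv_cancel, Units.val_one, map_oneU]
  have hτPP' : (P⁻¹.val.map τ)ᵀ * (P.val.map τ)ᵀ = 1 := by
    rw [← Matrix.transpose_mul, hτPP, Matrix.transpose_one]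
  have hτPP'' : (P.val.map τ)ᵀ * (P⁻¹.val.map τ)ᵀ = 1 := _root_.mul_eq_one_comm.1 hτPP'
  -- `m'ᵀ G m' = ζ G`
  have hsim : m'.valᵀ * ((P.val.map τ)ᵀ * P.val) * m'.val = (ζ : F) • ((P.val.map τ)ᵀ * P.val) := by
    have h6 : (P⁻¹.val.map τ)ᵀ * (m'.val.map τ)ᵀ * (P.val.map τ)ᵀ * (P.val * m'.val * P⁻¹.val) =
        1 := by
      rw [← hMP, ← hMU, hMP, map_mulU, map_mulU, Matrix.transpose_mul, Matrix.transpose_mul]
      simp only [Matrix.mul_assoc]
    have h7 := congrArg (fun A => (P.val.map τ)ᵀ * A * P.val) h6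
    beta_reduce at h7
    have h8 : (P.val.map τ)ᵀ * ((P⁻¹.val.map τ)ᵀ * (m'.val.map τ)ᵀ * (P.val.map τ)ᵀ *
        (P.val * m'.val * P⁻¹.val)) * P.val =
        ((P.val.map τ)ᵀ * (P⁻¹.val.map τ)ᵀ) * (m'.val.map τ)ᵀ * ((P.val.map τ)ᵀ * P.val) *
          m'.val * (P⁻¹.val * P.val) := by
      simp only [Matrix.mul_assoc]
    rw [h8, hτPP'', hPP, Matrix.one_mul, Matrix.mul_one, Matrix.mul_one, hE,
      Matrix.transpose_smul, Matrix.smul_mul, Matrix.smul_mul] at h7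
    have h9 := congrArg (fun A => (ζ : F) • A) h7
    simp only [smul_smul, mul_inv_cancel₀ ζ.ne_zero, one_smul] at h9
    exact h9
  refine ⟨b * b * ζ, ?_⟩
  rw [hval, Matrix.transpose_smul, Matrix.smul_mul, Matrix.smul_mul, Matrix.mul_smul, hsim,
    smul_smul, smul_smul]

end frame

end Cfsg.Agent.Lib.H7BalU
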