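import Cfsg.Agent.Lib.Helper7.BalU.UE
import Cfsg.Agent.Lib.Helper8.BalL.CentRel
import Cfsg.Agent.Lib.Helper8.BalL.NF
import Cfsg.Agent.Lib.Helper8.BalL.OddE

/-!
# Local balance for `PSU_n`: involutions of orthogonal type in the Frobenius coset (helper7)
-/

set_option autoImplicit false
set_option linter.unusedSectionVars false
set_option linter.style.haveILetI false

namespace Cfsg.Agent.Lib.H7BalU

open Matrix Cfsg Cfsg.Agent.Lib.H7AutPSp Cfsg.Agent.Lib.H7AutPSU Cfsg.Agent.Lib.H7AutPSL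
open Cfsg.Agent.Lib.Helper8.AutSp Cfsg.Agent.Lib.Helper8.BalL

variable {n : ℕ} {F : Type*} [Field F] {q : ℕ} {F₀ : Type*} [Field F₀]

local notation "sc" => Matrix.GeneralLinearGroup.scalar (Fin n)
local notation "gm" => Matrix.GeneralLinearGroup.map

/-- similitudes normalise the full group of rational special isometries -/
theorem hsim_of_full (ι : F₀ →+* F) (G : Matrix (Fin n) (Fin n) F)
    (S₀ : Subgroup (GL (Fin n) F₀)) (hdet : ∀ s ∈ S₀, s.val.det = 1)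
    (hiso : ∀ s ∈ S₀, (s.val.map ι)ᵀ * G * s.val.map ι = G)
    (hfull : ∀ s : GL (Fin n) F₀, s.val.det = 1 → (s.val.map ι)ᵀ * G * s.val.map ι = G → s ∈ S₀)
    (m₀ : GL (Fin n) F₀) (hm : ∃ μ : F, (m₀.val.map ι)ᵀ * G * m₀.val.map ι = μ • G)
    (s : GL (Fin n) F₀) (hs : s ∈ S₀) : m₀ * s * m₀⁻¹ ∈ S₀ := by
  obtain ⟨μ, hμ⟩ := hm
  apply hfull
  · have h1 : m₀.val.det * m₀⁻¹.val.det = 1 := by
      rw [← Matrix.det_mul, ← Units.val_mul, mul_inv_cancel, Units.val_one, Matrix.det_one]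
    rw [Units.val_mul, Units.val_mul, Matrix.det_mul, Matrix.det_mul, hdet s hs, mul_one, h1]
  · obtain ⟨M, hM⟩ : ∃ M, M = m₀.val.map ι := ⟨_, rfl⟩
    obtain ⟨Mi, hMi⟩ : ∃ Mi, Mi = m₀⁻¹.val.map ι := ⟨_, rfl⟩
    obtain ⟨S, hS⟩ : ∃ S, S = s.val.map ι := ⟨_, rfl⟩
    have hMM : M * Mi = 1 := by
      rw [hM, hMi, ← Matrix.map_mul, ← Units.val_mul, mul_inv_cancel, Units.val_one]
      exact Matrix.map_one ι (map_zero ι) (map_one ι)
    have e1 : (m₀ * s * m₀⁻¹).val.map ι = M * S * Mi := by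
      rw [Units.val_mul, Units.val_mul, Matrix.map_mul, Matrix.map_mul, hM, hS, hMi]
    have hs' := hiso s hs
    rw [← hM] at hμ
    rw [← hS] at hs'
    rw [e1, Matrix.transpose_mul, Matrix.transpose_mul]
    calc Miᵀ * (Sᵀ * Mᵀ) * G * (M * S * Mi)
        = Miᵀ * (Sᵀ * (Mᵀ * G * M) * S) * Mi := by simp only [Matrix.mul_assoc]
      _ = Miᵀ * (μ • (Sᵀ * G * S)) * Mi := by
          rw [hμ, Matrix.mul_smul, Matrix.smul_mul]
      _ = Miᵀ * (Mᵀ * G * M) * Mi := by rw [hs', hμ]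
      _ = (M * Mi)ᵀ * G * (M * Mi) := by
          rw [Matrix.transpose_mul]
          simp only [Matrix.mul_assoc]
      _ = G := by rw [hMM, Matrix.transpose_one, Matrix.one_mul, Matrix.mul_one]

/-- a matrix fixed by `τ` is rational -/
theorem exists_rational (τ : RingAut F) (ι : F₀ →+* F) (hι : ∀ t : F, τ t = t → ∃ s, ι s = t)
    (G : Matrix (Fin n) (Fin n) F) (hG : G.map τ = G) :
    ∃ G₀ : Matrix (Fin n) (Fin n) F₀, G₀.map ι = G := by
  have hent : ∀ i j, ∃ s : F₀, ι s = G i j := by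
    intro i j
    apply hι
    have := congrFun (congrFun hG i) j
    exact this
  choose f hf using hent
  refine ⟨Matrix.of f, ?_⟩
  ext i j
  rw [Matrix.map_apply, Matrix.of_apply, hf]

/-- the Gram matrix of a new frame -/
theorem gram_change (τ : RingAut F) (ι : F₀ →+* F) (hιτ : ∀ s, τ (ι s) = ι s)
    (P : GL (Fin n) F) (A : GL (Fin n) F₀) :
    ((P * gm ι A).val.map τ)ᵀ * (P * gm ι A).val =
      (A.val.map ι)ᵀ * ((P.val.map τ)ᵀ * P.val) * A.val.map ι := by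
  have h1 : (P * gm ι A).val = P.val * A.val.map ι := rfl
  have h2 : (A.val.map ι).map τ = A.val.map ι := by
    ext i j
    exact hιτ _
  rw [h1, map_mulU, h2, Matrix.transpose_mul]
  simp only [Matrix.mul_assoc]

theorem frame_change (τ : RingAut F) (ι : F₀ →+* F) (hιτ : ∀ s, τ (ι s) = ι s)
    (P : GL (Fin n) F) (A : GL (Fin n) F₀) (g : ↥(Cfsg.GU n F q)) (l : Fˣ)
    (hP : sc l * g.1 * gm (τ : F →+* F) P = P) :
    sc l * g.1 * gm (τ : F →+* F) (P * gm ι A) = P * gm ι A := by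
  rw [map_mul, map_tau_iota τ ι hιτ, ← mul_assoc, hP]

set_option maxHeartbeats 800000 in
/-- involutions of orthogonal type, for a given model of the fixed field -/
theorem coreTrivialU_symm_gen [Fintype F] [Fintype F₀]
    (hF : Fintype.card F = q ^ 2) (hn : 3 ≤ n) (hs : ¬ (n = 3 ∧ q = 2))
    (hfac : FacU n F q) (hZ : Subgroup.center (PSUn n F q) = ⊥) (h2 : (2 : F₀) ≠ 0)
    (τ : RingAut F) (hτ : ∀ t, τ t = t ^ q) (hτ2 : τ ^ 2 = 1) (hτ1 : τ ≠ 1)
    (ι : F₀ →+* F) (hιτ : ∀ s, τ (ι s) = ι s) (hι : ∀ t : F, τ t = t → ∃ s, ι s = t)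
    (g : ↥(Cfsg.GU n F q)) (l : Fˣ) (P : GL (Fin n) F)
    (hP : sc l * g.1 * gm (τ : F →+* F) P = P)
    (hsymm : ((P.val.map τ)ᵀ * P.val)ᵀ = (P.val.map τ)ᵀ * P.val)
    (hx2 : (DhU g * PhU τ : MulAut (PSUn n F q)) ^ 2 = 1) :
    CoreTrivialU (DhU g * PhU τ : MulAut (PSUn n F q)) 2 := by
  classical
  obtain ⟨G, hGdef⟩ : ∃ G, G = (P.val.map τ)ᵀ * P.val := ⟨_, rfl⟩
  rw [← hGdef] at hsymm
  have hτG : G.map τ = G := by
    have : G.map τ = Gᵀ := by
      rw [hGdef, map_mulU, map_transposeU, map_map_sq τ hτ2, Matrix.transpose_mul,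
        Matrix.transpose_transpose]
    rw [this, hsymm]
  obtain ⟨G₀, hG₀⟩ := exists_rational τ ι hι G hτG
  have hinj : Function.Injective (fun M : Matrix (Fin n) (Fin n) F₀ => M.map ι) :=
    Matrix.map_injective ι.injective
  have hG₀symm : G₀ᵀ = G₀ := by
    apply hinj
    show (G₀ᵀ).map ι = G₀.map ι
    rw [Matrix.transpose_map, hG₀, hsymm]
  have hGdet : G.det ≠ 0 := by
    rw [hGdef, Matrix.det_mul, Matrix.det_transpose]
    have h1 : P.val.det ≠ 0 := ((Matrix.isUnit_iff_isUnit_det P.val).1 ⟨P, rfl⟩).ne_zero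
    have h3 : (P.val.map τ).det = τ P.val.det := by
      have : P.val.map τ = (τ : F →+* F).mapMatrix P.val := rfl
      rw [this, ← RingHom.map_det]
      rfl
    rw [h3]
    exact mul_ne_zero ((map_ne_zero τ).2 h1) h1
  have hG₀det : G₀.det ≠ 0 := by
    intro h0
    apply hGdet
    have : G = ι.mapMatrix G₀ := hG₀.symm
    rw [this, ← RingHom.map_det, h0, map_zero]
  obtain ⟨A₀, a, hA₀, ha, hnf, hgram⟩ :=
    exists_normal_form h2 (⟨0, by omega⟩ : Fin n) G₀ hG₀symm hG₀det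
  have hgramF : (A₀.map ι)ᵀ * G * A₀.map ι = (Matrix.diagonal a).map ι := by
    rw [← hgram, Matrix.map_mul, Matrix.map_mul, Matrix.transpose_map, hG₀]
  -- the new frame
  obtain ⟨P', hP'def⟩ : ∃ P', P' = P * gm ι hA₀.unit := ⟨_, rfl⟩
  have hP' : sc l * g.1 * gm (τ : F →+* F) P' = P' := by
    rw [hP'def]
    exact frame_change τ ι hιτ P _ g l hP
  have hG' : (P'.val.map τ)ᵀ * P'.val = (Matrix.diagonal a).map ι := by
    rw [hP'def, gram_change τ ι hιτ, ← hGdef]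
    exact hgramF
  have hisoD : ∀ s : GL (Fin n) F₀, (s.val.map ι)ᵀ * (Matrix.diagonal a).map ι * s.val.map ι =
      (Matrix.diagonal a).map ι ↔ s ∈ Oa a := by
    intro s
    rw [mem_Oa_iff_gram]
    constructor
    · intro h
      apply hinj
      show (s.valᵀ * Matrix.diagonal a * s.val).map ι = (Matrix.diagonal a).map ι
      rw [Matrix.map_mul, Matrix.map_mul, Matrix.transpose_map]
      exact h
    · intro h
      rw [← Matrix.transpose_map, ← Matrix.map_mul, ← Matrix.map_mul, h]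
  have hdet : ∀ s ∈ SOa a, s.val.det = 1 := fun s hs => ((mem_SOa a s).1 hs).2
  have hiso : ∀ s ∈ SOa a, (s.val.map ι)ᵀ * ((P'.val.map τ)ᵀ * P'.val) * s.val.map ι =
      (P'.val.map τ)ᵀ * P'.val := by
    intro s hs
    rw [hG']
    exact (hisoD s).2 ((mem_SOa a s).1 hs).1
  have hfull : ∀ s : GL (Fin n) F₀, s.val.det = 1 →
      (s.val.map ι)ᵀ * ((P'.val.map τ)ᵀ * P'.val) * s.val.map ι = (P'.val.map τ)ᵀ * P'.val →
      s ∈ SOa a := by
    intro s hd h
    rw [hG'] at h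
    exact (mem_SOa a s).2 ⟨(hisoD s).1 h, hd⟩
  exact frame_core_trivial hF hn hs hfac hZ τ hτ hτ2 hτ1 ι hιτ hι P' (SOa a) hdet hiso g l hP' hx2
    (hsim_of_full ι _ (SOa a) hdet hiso hfull)
    (centO_matrix_rel ι h2 hn a ha _ hnf)
    (fun N hNS hnorm hodd => coreO h2 hn a ha N hNS hnorm hodd)

end Cfsg.Agent.Lib.H7BalU
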