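import Cfsg.Agent.Lib.Helper7.BalU.UF
import Cfsg.Agent.Lib.Helper8.BalL.UB

/-!
# Local balance for `PSU_n`: involutions in the Frobenius coset, and parity of fixed points
(helper7)
-/

set_option autoImplicit false
set_option linter.unusedSectionVars false
set_option linter.style.haveILetI false

namespace Cfsg.Agent.Lib.H7BalU

open Matrix Cfsg Cfsg.Agent.Lib.H7AutPSp Cfsg.Agent.Lib.H7AutPSU Cfsg.Agent.Lib.H7AutPSL
open Cfsg.Agent.Lib.Helper8.AutSp Cfsg.Agent.Lib.Helper8.BalL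

variable {n : ℕ} {F : Type*} [Field F] {q : ℕ}

local notation "sc" => Matrix.GeneralLinearGroup.scalar (Fin n)
local notation "gm" => Matrix.GeneralLinearGroup.map

/-- involutions of orthogonal type -/
theorem coreTrivialU_symm [Fintype F]
    (hF : Fintype.card F = q ^ 2) (hn : 3 ≤ n) (hs : ¬ (n = 3 ∧ q = 2))
    (hfac : FacU n F q) (hZ : Subgroup.center (PSUn n F q) = ⊥) (h2 : (2 : F) ≠ 0)
    (τ : RingAut F) (hτ : ∀ t, τ t = t ^ q) (hτ2 : τ ^ 2 = 1) (hτ1 : τ ≠ 1)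
    (g : ↥(Cfsg.GU n F q)) (l : Fˣ) (P : GL (Fin n) F)
    (hP : sc l * g.1 * gm (τ : F →+* F) P = P)
    (hsymm : ((P.val.map τ)ᵀ * P.val)ᵀ = (P.val.map τ)ᵀ * P.val)
    (hx2 : (DhU g * PhU τ : MulAut (PSUn n F q)) ^ 2 = 1) :
    CoreTrivialU (DhU g * PhU τ : MulAut (PSUn n F q)) 2 := by
  classical
  haveI : Fintype ↥(FixedPoints.subfield (↥(Subgroup.zpowers τ)) F) := Fintype.ofFinite _
  refine coreTrivialU_symm_gen (F₀ := ↥(FixedPoints.subfield (↥(Subgroup.zpowers τ)) F))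
    hF hn hs hfac hZ ?_ τ hτ hτ2 hτ1
    (FixedPoints.subfield (↥(Subgroup.zpowers τ)) F).subtype ?_ ?_ g l P hP hsymm hx2
  · intro h0
    apply h2
    have := congrArg (FixedPoints.subfield (↥(Subgroup.zpowers τ)) F).subtype h0
    rw [map_ofNat, map_zero] at this
    exact this
  · intro s
    exact (mem_fixed_iff τ s.1).1 s.2
  · intro t ht
    exact ⟨⟨t, (mem_fixed_iff τ t).2 ht⟩, rfl⟩

/-- **involutions in the coset of the Frobenius involution**, the symplectic type being given -/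
theorem coreTrivialU_frob [Fintype F]
    (hF : Fintype.card F = q ^ 2) (hn : 3 ≤ n) (hs : ¬ (n = 3 ∧ q = 2))
    (hfac : FacU n F q) (hZ : Subgroup.center (PSUn n F q) = ⊥) (h2 : (2 : F) ≠ 0)
    (τ : RingAut F) (hτ : ∀ t, τ t = t ^ q) (hτ2 : τ ^ 2 = 1) (hτ1 : τ ≠ 1)
    (hskew : ∀ (g : ↥(Cfsg.GU n F q)) (l : Fˣ) (P : GL (Fin n) F),
      sc l * g.1 * gm (τ : F →+* F) P = P →
      ((P.val.map τ)ᵀ * P.val)ᵀ = -((P.val.map τ)ᵀ * P.val) →
      (DhU g * PhU τ : MulAut (PSUn n F q)) ^ 2 = 1 →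
      CoreTrivialU (DhU g * PhU τ : MulAut (PSUn n F q)) 2)
    (g : ↥(Cfsg.GU n F q))
    (hx2 : (DhU g * PhU τ : MulAut (PSUn n F q)) ^ 2 = 1) :
    CoreTrivialU (DhU g * PhU τ : MulAut (PSUn n F q)) 2 := by
  obtain ⟨c₀, l, P, hc, hl, hPu, hPe, hH⟩ := invol_descent hF hn hs τ hτ hτ2 hτ1 g hx2
  have hl0 : l ≠ 0 := by
    rintro rfl
    rw [zero_mul] at hl
    rcases hc with h | h
    · rw [h] at hl
      exact zero_ne_one hl
    · rw [h] at hl
      have : (1 : F) = 0 := by linear_combination hl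
      exact one_ne_zero this
  have hP : sc (Units.mk0 l hl0) * g.1 * gm (τ : F →+* F) hPu.unit = hPu.unit := by
    apply Units.ext
    rw [Units.val_mul, Units.val_mul, scalar_val, Units.val_mk0]
    exact hPe
  have hG : ((hPu.unit.val.map τ)ᵀ * hPu.unit.val)ᵀ = Pᵀ * P.map τ := by
    rw [Matrix.transpose_mul, Matrix.transpose_transpose]
    rfl
  have hG' : (hPu.unit.val.map τ)ᵀ * hPu.unit.val = (Pᵀ * P.map τ)ᵀ := by
    rw [Matrix.transpose_mul, Matrix.transpose_transpose]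
    rfl
  rcases hc with h | h
  · subst h
    rw [one_smul] at hH
    apply coreTrivialU_symm hF hn hs hfac hZ h2 τ hτ hτ2 hτ1 g _ hPu.unit hP _ hx2
    rw [hG, hG', hH]
  · subst h
    apply hskew g _ hPu.unit hP _ hx2
    rw [hG, hG', hH, neg_smul, one_smul, neg_neg]

/-! ### parity -/

/-- `PSU_n(q)` has even order for `q` odd -/
theorem even_card_PSU [Fintype F] (hF : Fintype.card F = q ^ 2) (hn : 3 ≤ n) (h2 : (2 : F) ≠ 0) :
    2 ∣ Nat.card (PSUn n F q) := by
  obtain ⟨τ, hτ, hτ2, hτ1⟩ := exists_frobAut hF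
  have h01 : (⟨0, by omega⟩ : Fin n) ≠ ⟨1, by omega⟩ := by
    intro h
    have := congrArg Fin.val h
    exact absurd this (by norm_num)
  have hmem : sgSL (F := F) _ _ h01 ∈ Cfsg.SU n F q :=
    (mem_SU_iff_isU τ q hτ _).2 (sgSL_isU τ _ _ h01)
  obtain ⟨d, hd⟩ : ∃ d : SUn n F q, d = ⟨sgSL (F := F) _ _ h01, hmem⟩ := ⟨_, rfl⟩
  have hd2 : (prC d : PSUn n F q) ^ 2 = 1 := by
    rw [← map_pow, pow_two]
    have : d * d = 1 := by
      rw [hd]
      apply Subtype.ext
      exact sgSL_sq _ _ h01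
    rw [this, map_one]
  have hd1 : (prC d : PSUn n F q) ≠ 1 := by
    intro h1
    have h3 : (prC (1 : SUn n F q) : PSUn n F q) = prC d := by rw [h1, map_one]
    obtain ⟨ζ, hζ⟩ := prC_eq_smul hF (by omega) _ _ h3
    apply sgSL_not_scalar h2 (⟨0, by omega⟩ : Fin n) ⟨1, by omega⟩ ⟨2, by omega⟩ h01
      (by intro h; exact absurd (congrArg Fin.val h) (by norm_num))
      (by intro h; exact absurd (congrArg Fin.val h) (by norm_num)) (ζ : F)
    have e1 : (d.1.1 : Matrix (Fin n) (Fin n) F) = (sgSL (F := F) _ _ h01).val := by rw [hd]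
    rw [← e1, hζ]
    rfl
  have hord : orderOf (prC d : PSUn n F q) = 2 := orderOf_eq_prime hd2 hd1
  rw [← hord]
  exact orderOf_dvd_natCard _

/-- an involutory automorphism of a group of even order has an even number of fixed points -/
theorem even_card_fixG {K : Type*} [Group K] [Finite K] (x : MulAut K) (hx : x ^ 2 = 1)
    (hK : 2 ∣ Nat.card K) : 2 ∣ Nat.card ↥(fixG x) := by
  classical
  haveI : Fintype K := Fintype.ofFinite K
  let f : Function.End K := fun k => x k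
  have hf : f ^ 2 ^ 1 = 1 := by
    rw [pow_one, pow_two]
    funext k
    have := DFunLike.congr_fun hx k
    rw [pow_two] at this
    exact this
  have h1 := Equiv.Perm.card_fixedPoints_modEq (p := 2) (n := 1) hf
  have h3 : Nat.card ↥(fixG x) = Fintype.card ↥(Function.fixedPoints f) := by
    rw [← Nat.card_eq_fintype_card]
    rfl
  rw [h3]
  rw [Nat.card_eq_fintype_card] at hK
  exact (Nat.modEq_zero_iff_dvd.1 (h1.symm.trans (Nat.modEq_zero_iff_dvd.2 hK)))

end Cfsg.Agent.Lib.H7BalU
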