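import Cfsg.Agent.Lib.Helper7.BalU.UG
import Cfsg.Agent.Lib.Lead.AutPSU.UFacCore
import Cfsg.Agent.S0282

/-!
# Local balance for `PSU_n`: the assembly (helper7)

The statement S2687, given the field case for odd primes and the involutions of symplectic type.
-/

set_option autoImplicit false
set_option linter.unusedSectionVars false
set_option linter.style.haveILetI false

namespace Cfsg.Agent.Lib.H7BalU

open Matrix Cfsg Cfsg.Agent.Lib.H7AutPSp Cfsg.Agent.Lib.H7AutPSU Cfsg.Agent.Lib.H7AutPSL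
open Cfsg.Agent.Lib.Helper8.AutSp Cfsg.Agent.Lib.Helper8.BalL

variable {n : ℕ} {F : Type*} [Field F] {q : ℕ}

local notation "sc" => Matrix.GeneralLinearGroup.scalar (Fin n)
local notation "gm" => Matrix.GeneralLinearGroup.map

/-- `PSU_n(q)` has trivial centre -/
theorem center_PSU_eq_bot [Fintype F] (hF : Fintype.card F = q ^ 2) (hn : 3 ≤ n)
    (hs : ¬ (n = 3 ∧ q = 2)) : Subgroup.center (PSUn n F q) = ⊥ := by
  rw [eq_bot_iff]
  intro k hk
  rw [Subgroup.mem_bot]
  obtain ⟨m, rfl⟩ := prC_surjective k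
  have h1 : (MulAut.conj (prC m) : MulAut (PSUn n F q)) = 1 := by
    ext t
    rw [MulAut.conj_apply, MulAut.one_apply, ← Subgroup.mem_center_iff.1 hk t, mul_inv_cancel_right]
  rw [← liftC_conj] at h1
  have h2 := eq_one_of_liftC_eq_one (su_perfect hF hn hs) _ h1
  have h3 : m ∈ Subgroup.center (SUn n F q) := by
    rw [Subgroup.mem_center_iff]
    intro b
    have := DFunLike.congr_fun h2 b
    rw [MulAut.conj_apply, MulAut.one_apply] at this
    calc b * m = (m * b * m⁻¹) * m := by rw [this]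
      _ = m * b := by group
  have h4 : (prC (1 : SUn n F q) : PSUn n F q) = prC m := by
    rw [prC_eq_iff, inv_one, one_mul]
    exact h3
  rw [← h4, map_one]

/-- the simple group `PSU_n(q)` is not `PSU_3(2)` -/
theorem not_exc_of_simple [Fintype F] (hF : Fintype.card F = q ^ 2)
    (hK : IsSimpleGroup (Cfsg.PSU n F q)) : ¬ (n = 3 ∧ q = 2) := by
  rintro ⟨rfl, rfl⟩
  obtain ⟨hcard, hsolv⟩ := Cfsg.Agent.S0282.result (F := F) (by rw [hF]; norm_num)
  have hcomm : ∀ a b : Cfsg.PSU 3 F 2, a * b = b * a := by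
    haveI := hsolv
    exact IsSimpleGroup.comm_iff_isSolvable.2 hsolv
  letI : CommGroup (Cfsg.PSU 3 F 2) := { (inferInstance : Group (Cfsg.PSU 3 F 2)) with
    mul_comm := hcomm }
  have hprime : (Nat.card (Cfsg.PSU 3 F 2)).Prime := IsSimpleGroup.prime_card
  rw [hcard] at hprime
  exact absurd hprime (by norm_num)

/-- `q` is a power of the characteristic -/
theorem exists_q_pow [Fintype F] (r : ℕ) [Fact r.Prime] [CharP F r]
    (hF : Fintype.card F = q ^ 2) : ∃ f : ℕ, 1 ≤ f ∧ q = r ^ f := by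
  have hr : r.Prime := Fact.out
  obtain ⟨k, hk⟩ := FiniteField.card F r
  have hq1 := Cfsg.Agent.Lib.Helper5.Herm.one_lt_q hF
  have h1 : q ∣ r ^ (k : ℕ) := by
    rw [← hk.2, hF]
    exact dvd_pow_self q (by norm_num)
  obtain ⟨f, -, hf⟩ := (Nat.dvd_prime_pow hr).1 h1
  refine ⟨f, ?_, hf⟩
  rcases Nat.eq_zero_or_pos f with h0 | h0
  · rw [h0, pow_zero] at hf
    omega
  · exact h0

/-- the Frobenius involution is the only involution of the field -/
theorem frob_unique [Fintype F] (hF : Fintype.card F = q ^ 2) (τ σ : RingAut F)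
    (hτ : ∀ t, τ t = t ^ q) (hτ1 : τ ≠ 1) (hσ : orderOf σ = 2) : σ = τ := by
  classical
  have hσ2 : σ ^ 2 = 1 := by
    rw [← hσ]
    exact pow_orderOf_eq_one σ
  haveI : Fintype (FixK σ) := Fintype.ofFinite _
  have hcard : Fintype.card (FixK σ) = q := by
    have h1 := card_fixed_pow σ
    rw [hσ, hF] at h1
    have h2 : Fintype.card (FixK σ) = (Finset.univ.filter (fun x : F => σ x = x)).card := by
      apply Fintype.card_of_subtype
      intro x
      rw [Finset.mem_filter, mem_fixed_iff]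
      simp
    rw [← h2] at h1
    exact (Nat.pow_left_injective (n := 2) (by norm_num) h1).symm
  have hfix : ∀ t, σ t = t → τ t = t := by
    intro t ht
    have h3 := FiniteField.pow_card (⟨t, (mem_fixed_iff σ t).2 ht⟩ : FixK σ)
    rw [hcard] at h3
    rw [hτ]
    exact congrArg Subtype.val h3
  haveI : Finite F := Finite.of_fintype F
  rcases eq_one_or_eq_of_fix σ τ hσ2 hfix with h | h
  · exact absurd h hτ1
  · exact h.symm

set_option maxHeartbeats 800000 in
/-- **S2687**, given the field case for odd primes and the involutions of symplectic type -/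
theorem local_balance_PSU [Fintype F] (r : ℕ) [Fact r.Prime] [CharP F r]
    (hF : Fintype.card F = q ^ 2) (hn : 3 ≤ n) (hK : IsSimpleGroup (Cfsg.PSU n F q))
    (hfieldA : ∀ (p : ℕ) [Fact p.Prime], p ≠ r → p ≠ 2 → ∀ σ : RingAut F, orderOf σ = p →
      p ∣ Nat.card ↥(fixG (PhU σ : MulAut (PSUn n F q))) →
      CoreTrivialU (PhU σ : MulAut (PSUn n F q)) p)
    (hfixA : ∀ σ : RingAut F, fixG (PhU σ : MulAut (PSUn n F q)) ≠ ⊥)
    (hskew : (2 : F) ≠ 0 → ∀ (τ : RingAut F), (∀ t, τ t = t ^ q) → τ ^ 2 = 1 → τ ≠ 1 →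
      ∀ (g : ↥(Cfsg.GU n F q)) (l : Fˣ) (P : GL (Fin n) F),
      sc l * g.1 * gm (τ : F →+* F) P = P →
      ((P.val.map τ)ᵀ * P.val)ᵀ = -((P.val.map τ)ᵀ * P.val) →
      (DhU g * PhU τ : MulAut (PSUn n F q)) ^ 2 = 1 →
      CoreTrivialU (DhU g * PhU τ : MulAut (PSUn n F q)) 2)
    (𝒢 : Subgroup (MulAut (Cfsg.PSU n F q))) (hinn : ∀ k : Cfsg.PSU n F q, MulAut.conj k ∈ 𝒢)
    (p : ℕ) [Fact p.Prime] (hpr : p ≠ r) (β : MulAut (Cfsg.PSU n F q)) (hβ : β ∈ 𝒢)
    (hord : orderOf β = p) (hnot : ¬ Cfsg.IsInnerDiagonalAutPSU β) :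
    Cfsg.pPrimeCore p ↥(𝒢 ⊓ Subgroup.centralizer {β}) ≠ ⊥ ↔
      ((∃ γ φ : MulAut (Cfsg.PSU n F q), Cfsg.IsInnerDiagonalAutPSU γ ∧
        (∃ σ : F ≃+* F, Cfsg.IsFieldAutPSUOf σ φ) ∧ β = φ.trans γ) ∧
        Nat.Coprime p (Nat.card ↥(MonoidHom.eqLocus β.toMonoidHom
          (MonoidHom.id (Cfsg.PSU n F q))))) := by
  classical
  have hp : p.Prime := Fact.out
  have hrp : r.Prime := Fact.out
  have hs : ¬ (n = 3 ∧ q = 2) := not_exc_of_simple hF hK
  obtain ⟨f, hf, hq⟩ := exists_q_pow r hF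
  have hfac : FacU n F q := facU_of_core (Cfsg.Agent.AutPSU.FacU_core hq hf hF hn hs)
  have hZ : Subgroup.center (PSUn n F q) = ⊥ := center_PSU_eq_bot hF hn hs
  obtain ⟨g, σ, rfl⟩ := hfac β
  have hsemi : ∃ γ φ : MulAut (Cfsg.PSU n F q), Cfsg.IsInnerDiagonalAutPSU γ ∧
      (∃ σ' : F ≃+* F, Cfsg.IsFieldAutPSUOf σ' φ) ∧
      (DhU g * PhU σ : MulAut (PSUn n F q)) = φ.trans γ :=
    ⟨DhU g, PhU σ, (innerDiagU_iff _).2 ⟨g, rfl⟩, ⟨σ, (fieldU_iff σ _).2 rfl⟩, rfl⟩
  -- the order of `σ`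
  have hβp : (DhU g * PhU σ : MulAut (PSUn n F q)) ^ p = 1 := by
    rw [← hord]
    exact pow_orderOf_eq_one _
  have hσ1 : σ ≠ 1 := by
    rintro rfl
    apply hnot
    rw [map_one, mul_one]
    exact (innerDiagU_iff _).2 ⟨g, rfl⟩
  have hσp : σ ^ p = 1 := by
    have h1 := hβp
    rw [coset_pow_U] at h1
    apply eq_one_of_PhU_mem_range hF hn hs
    have : (PhU (σ ^ p) : MulAut (PSUn n F q)) = (DhU (gnormU σ g p))⁻¹ :=
      eq_inv_of_mul_eq_one_right h1
    rw [this, ← map_inv]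
    exact ⟨_, rfl⟩
  have hσord : orderOf σ = p := orderOf_eq_prime hσp hσ1
  -- the core condition, once the conclusion of the main argument is known
  have hW : CoreTrivialU (DhU g * PhU σ : MulAut (PSUn n F q)) p →
      Cfsg.pPrimeCore p ↥(𝒢 ⊓ Subgroup.centralizer {(DhU g * PhU σ : MulAut (PSUn n F q))}) =
        ⊥ := by
    intro hct
    rw [← coreIm_eq_bot_iff]
    apply hct
    · exact coreIm_coprime p _
    · intro w hw
      exact (comm_of_mem_centralizer ((coreIm_le p _ hw).2)).symm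
    · intro k hk w hw
      exact coreIm_conj_mem p (𝒢 ⊓ Subgroup.centralizer {(DhU g * PhU σ : MulAut (PSUn n F q))}) _
        (Subgroup.mem_inf.2 ⟨hinn k, (conj_mem_centralizer_iff hZ _ k).2 hk⟩) w hw
  by_cases hp2 : p = 2
  · subst hp2
    have h2 : (2 : F) ≠ 0 := by
      intro h0
      have h1 : ((2 : ℕ) : F) = 0 := by exact_mod_cast h0
      rw [CharP.cast_eq_zero_iff F r 2] at h1
      exact hpr ((Nat.prime_dvd_prime_iff_eq hrp Nat.prime_two).1 h1).symm
    obtain ⟨τ, hτ, hτ2, hτ1⟩ := exists_frobAut hF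
    have hστ : σ = τ := frob_unique hF τ σ hτ hτ1 hσord
    subst hστ
    have hct : CoreTrivialU (DhU g * PhU σ : MulAut (PSUn n F q)) 2 :=
      coreTrivialU_frob hF hn hs hfac hZ h2 σ hτ hτ2 hτ1 (hskew h2 σ hτ hτ2 hτ1) g hβp
    constructor
    · intro hne
      exact absurd (hW hct) hne
    · rintro ⟨-, hcop⟩
      exfalso
      have hev := even_card_fixG (DhU g * PhU σ : MulAut (PSUn n F q)) hβp
        (even_card_PSU hF hn h2)
      have := Nat.eq_one_of_dvd_coprimes hcop dvd_rfl hev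
      omega
  · have hodd : Odd p := hp.odd_of_ne_two hp2
    obtain ⟨h, hh⟩ := field_coset_conj_U hF hn hs σ p hp hodd hσord g hβp
    have hconj : (DhU h)⁻¹ * (DhU g * PhU σ : MulAut (PSUn n F q)) * ((DhU h)⁻¹)⁻¹ = PhU σ := by
      rw [hh]
      group
    constructor
    · intro hne
      refine ⟨hsemi, ?_⟩
      by_contra hncop
      have hdiv : p ∣ Nat.card ↥(fixG (DhU g * PhU σ : MulAut (PSUn n F q))) :=
        hp.dvd_iff_not_coprime.2 hncop
      apply hne
      apply hW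
      apply coreTrivialU_transport _ _ _ hconj
      apply hfieldA p hpr hp2 σ hσord
      rw [Cfsg.Agent.Lib.Helper8.Bal.card_fixG_conj _ _ _ hconj]
      exact hdiv
    · rintro ⟨-, hcop⟩
      apply pcore_ne_bot_of_fix hZ 𝒢 hinn _ ?_ hcop
      intro hbot
      apply hfixA σ
      rw [Cfsg.Agent.Lib.Helper8.Bal.fixG_conj_eq _ _ _ hconj, hbot, Subgroup.map_bot]

end Cfsg.Agent.Lib.H7BalU
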